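import Cfsg.Agent.H997.OutMcL
import Cfsg.Agent.H713.Spor.McL
import Cfsg.Agent.H620.PNorm

/-!
# S4555: the prime 2 for `McL` (helper123)

The automorphisms of `McL` are induced by elements of `Co0`, so the character of degree 22 (trace on the Leech lattice
minus 2) is invariant; the elements of order 8 of `M22` have two fixed points on 24 points, hence trace 2.
-/

set_option autoImplicit false

namespace Cfsg.Agent.H123.PV.McL

open Cfsg Cfsg.Spor Subgroup Cfsg.Agent.H997.OutMcL Cfsg.Agent.H997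

/-! ### automorphisms -/

/-- conjugation by an element interchanging `U` and `W` is not inner -/
theorem not_inner {f : Equiv.Perm leechLattice} (hf : f ∈ Co0) (hV : f leechV = leechV) (hU : f leechU = W)
    (hW : f W = leechU) (k : Spor.McL) (hk : ∀ x : Equiv.Perm leechLattice, x ∈ Spor.McL →
      f * x * f⁻¹ = k * x * (k : Equiv.Perm leechLattice)⁻¹) : False := by
  obtain ⟨hfin, hsimple, hcard, ⟨L⟩⟩ := TypeM.FactsMcL.exists_mt_mcl
  have hkm := mem_McL.1 k.2
  have hcV : ((k : Equiv.Perm leechLattice)⁻¹ * f) leechV = leechV := by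
    rw [Equiv.Perm.mul_apply, hV, Equiv.Perm.inv_eq_iff_eq, hkm.2.1]
  have hkW : (k : Equiv.Perm leechLattice) W = W := by rw [map_W hkm.1 hkm.2.1, hkm.2.2]; rfl
  have hcU : ((k : Equiv.Perm leechLattice)⁻¹ * f) leechU = W := by
    rw [Equiv.Perm.mul_apply, hU, Equiv.Perm.inv_eq_iff_eq, hkW]
  have hcW : ((k : Equiv.Perm leechLattice)⁻¹ * f) W = leechU := by
    rw [Equiv.Perm.mul_apply, hW, Equiv.Perm.inv_eq_iff_eq, hkm.2.2]
  have hc0 : (k : Equiv.Perm leechLattice)⁻¹ * f ∈ Co0 := mul_mem (inv_mem hkm.1) hf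
  have hcen : ∀ x : Equiv.Perm leechLattice, x ∈ Spor.McL →
      ((k : Equiv.Perm leechLattice)⁻¹ * f) * x = x * ((k : Equiv.Perm leechLattice)⁻¹ * f) := by
    intro x hx
    have h2 := hk x hx
    calc (k : Equiv.Perm leechLattice)⁻¹ * f * x = (k : Equiv.Perm leechLattice)⁻¹ * (f * x * f⁻¹) * f := by group
      _ = (k : Equiv.Perm leechLattice)⁻¹ * (k * x * (k : Equiv.Perm leechLattice)⁻¹) * f := by rw [h2]
      _ = x * ((k : Equiv.Perm leechLattice)⁻¹ * f) := by group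
  obtain ⟨c, hc⟩ : ∃ c : Equiv.Perm leechLattice, c = (k : Equiv.Perm leechLattice)⁻¹ * f := ⟨_, rfl⟩
  rw [← hc] at hcV hcU hcW hc0 hcen
  have hcc : c * c ∈ Spor.McL := mem_McL.2 ⟨mul_mem hc0 hc0, by rw [Equiv.Perm.mul_apply, hcV, hcV],
    by rw [Equiv.Perm.mul_apply, hcU, hcW]⟩
  have hcc1 : c * c = 1 := by
    have hz : (⟨c * c, hcc⟩ : Spor.McL) ∈ Subgroup.center Spor.McL := by
      rw [Subgroup.mem_center_iff]
      intro x
      apply Subtype.ext
      show (x : Equiv.Perm leechLattice) * (c * c) = c * c * x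
      rw [← mul_assoc, ← hcen x x.2, mul_assoc, ← hcen x x.2, mul_assoc]
    have hzb : Subgroup.center Spor.McL = ⊥ := by
      rcases IsSimpleGroup.eq_bot_or_eq_top_of_normal (Subgroup.center Spor.McL) inferInstance with h | h
      · exact h
      · exfalso
        have hcomm : ∀ a b : Spor.McL, a * b = b * a := fun a b =>
          (Subgroup.mem_center_iff.1 (by rw [h]; trivial : b ∈ Subgroup.center Spor.McL) a)
        let _ : CommGroup Spor.McL := { (inferInstance : Group Spor.McL) with mul_comm := hcomm }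
        have hp := IsSimpleGroup.prime_card (α := Spor.McL)
        rw [hcard] at hp
        revert hp
        norm_num
    rw [hzb, Subgroup.mem_bot] at hz
    exact congrArg Subtype.val hz
  refine no_central (c := ⟨⟨c, hc0⟩, hcV⟩) ?_ ?_ hcen
  · intro h
    have h1 : c = 1 := congrArg (fun z : Cfsg.Agent.SporRec.Co3.Chain.G3 => ((z : Co0) : Equiv.Perm leechLattice)) h
    rw [h1] at hcU
    exact W_ne hcU.symm
  · apply Subtype.ext
    apply Subtype.ext
    exact hcc1

/-- The automorphisms of `McL` are induced by elements of `Co0`. -/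
theorem exists_co0 (α : MulAut Spor.McL) : ∃ h : Co0, ∀ x : Spor.McL,
    ((α x : Spor.McL) : Equiv.Perm leechLattice) = (h : Equiv.Perm leechLattice) * x * (h : Equiv.Perm leechLattice)⁻¹ := by
  obtain ⟨hfin, hsimple, hcard, ⟨L⟩⟩ := TypeM.FactsMcL.exists_mt_mcl
  obtain ⟨f, hf, hV, hU, hW⟩ := OutMcL.exists_swap
  have hn := mem_normalizer hf hV hU hW
  have hG : TypeM.FactsAut.Gen L := TypeM.FactsAut.gen L (Or.inl ⟨rfl, hcard⟩)
  set β : MulAut Spor.McL := Subgroup.normalizerMonoidHom Spor.McL ⟨f, hn⟩ with hβ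
  have hβx : ∀ x : Spor.McL, ((β x : Spor.McL) : Equiv.Perm leechLattice) = f * x * f⁻¹ := fun x => rfl
  have hβo : β ∉ (MulAut.conj : Spor.McL →* MulAut Spor.McL).range := by
    rintro ⟨k, hk⟩
    refine not_inner hf hV hU hW k fun x hx => ?_
    have h1 := congrArg (fun γ : MulAut Spor.McL => ((γ ⟨x, hx⟩ : Spor.McL) : Equiv.Perm leechLattice)) hk
    exact h1.symm
  by_cases hα : α ∈ (MulAut.conj : Spor.McL →* MulAut Spor.McL).range
  · obtain ⟨k, rfl⟩ := hα
    exact ⟨⟨k, (mem_McL.1 k.2).1⟩, fun x => rfl⟩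
  · obtain ⟨g, hg⟩ := TypeM.OuterInst.mul_mem_range L (Or.inl rfl) hG hβo hα
    -- `β α = conj g`
    refine ⟨⟨f⁻¹ * g, mul_mem (inv_mem hf) (mem_McL.1 g.2).1⟩, fun x => ?_⟩
    have h1 : ((β (α x) : Spor.McL) : Equiv.Perm leechLattice) = g * x * (g : Equiv.Perm leechLattice)⁻¹ :=
      congrArg (fun γ : MulAut Spor.McL => ((γ x : Spor.McL) : Equiv.Perm leechLattice)) hg.symm
    rw [hβx] at h1
    change _ = f⁻¹ * g * x * (f⁻¹ * g)⁻¹
    calc ((α x : Spor.McL) : Equiv.Perm leechLattice) = f⁻¹ * (f * (α x : Spor.McL) * f⁻¹) * f := by group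
      _ = f⁻¹ * (g * x * (g : Equiv.Perm leechLattice)⁻¹) * f := by rw [h1]
      _ = f⁻¹ * g * x * (f⁻¹ * g)⁻¹ := by group

/-! ### the element of order 8 -/

open Cfsg.Agent.H419.Spor.Mathieu Cfsg.Agent.H419.LeechFix Cfsg.Agent.H419.LeechIrr
open Cfsg.Agent.SporadicA.Co0Mono (permCo0)
open Cfsg.Agent.SporadicRecognition.HSRank Cfsg.Agent.SporadicRecognition.RankThree

/-- an element of order 8 of `M22` -/
noncomputable def x8 : Spor.M22 := ⟨T * cubeTwist * T * cubeTwist * T * M,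
  ⟨mul_mem (mul_mem (mul_mem (mul_mem (mul_mem T_mem C_mem) T_mem) C_mem) T_mem) M_mem, by
      show (T * cubeTwist * T * cubeTwist * T * M) none = none
      decide +kernel⟩, by
      show (T * cubeTwist * T * cubeTwist * T * M) (some 0) = some 0
      decide +kernel⟩

theorem x8_pow : x8 ^ 8 = 1 := by
  apply Subtype.ext
  show (T * cubeTwist * T * cubeTwist * T * M) ^ 8 = 1
  apply Equiv.ext
  decide +kernel

noncomputable def y8 : St2 := Cfsg.Agent.H419.Spor.HS.e2.symm x8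

theorem y8_fix : Nat.card (MulAction.fixedBy GolayPt ((y8 : St1) : M24)) = 2 := by
  have h : ∀ p : GolayPt, (T * cubeTwist * T * cubeTwist * T * M) p = p ↔ p = none ∨ p = some 0 := by
    decide +kernel
  have h1 : MulAction.fixedBy GolayPt ((y8 : St1) : M24) = {none, some 0} := by
    ext p
    exact h p
  rw [h1, Nat.card_coe_set_eq, Set.ncard_pair (by simp)]

/-- the element of order 8 of `McL` -/
noncomputable def z8 := H713.Spor.McL.k y8

theorem z8_pow : z8 ^ 8 = 1 := by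
  rw [z8, ← map_pow]
  have h : y8 ^ 8 = 1 := by rw [y8, ← map_pow, x8_pow, map_one]
  rw [h, map_one]

theorem lchi_z8 : lchi (Subgroup.subtype _) z8 = 2 := by
  have h : (K (-Spor.leechV) Spor.leechU).subtype z8 = permCo0 ((y8 : St1) : M24) := rfl
  have h1 := lchi_perm (K (-Spor.leechV) Spor.leechU).subtype h
  rw [y8_fix] at h1
  rw [h1]
  norm_num

theorem vz_z8 : H713.VZ _ z8 := by
  obtain ⟨μ, -, hμ⟩ := H713.Spor.McL.exists_22
  refine ⟨μ, fun α => ?_⟩
  obtain ⟨h, hh⟩ := exists_co0 ((H713.Spor.McL.mclEquiv.trans α).trans H713.Spor.McL.mclEquiv.symm)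
  have h1 := hμ (α z8)
  have h2 : Cfsg.Agent.Co2Type.Mono.tr8 ((α z8 : _) : Co0) = Cfsg.Agent.Co2Type.Mono.tr8 ((z8 : _) : Co0) := by
    have h3 : ((α z8 : _) : Co0) = h * ((z8 : _) : Co0) * h⁻¹ := Subtype.ext (by
      have h4 := hh (H713.Spor.McL.mclEquiv.symm z8)
      have h5 : (H713.Spor.McL.mclEquiv.trans α) (H713.Spor.McL.mclEquiv.symm z8) = α z8 := by
        rw [MulEquiv.trans_apply, MulEquiv.apply_symm_apply]
      rw [MulEquiv.trans_apply, h5] at h4
      exact h4)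
    rw [h3, Cfsg.Agent.Co2Type.Mono.tr8_conj]
  have h3 : lchi (Subgroup.subtype _) (α z8) = lchi (Subgroup.subtype _) z8 := by
    show (Cfsg.Agent.Co2Type.Mono.tr8 _ : ℂ) / 8 = (Cfsg.Agent.Co2Type.Mono.tr8 _ : ℂ) / 8
    exact congrArg (fun n : ℤ => (n : ℂ) / 8) h2
  rw [h3, lchi_z8] at h1
  push_cast at h1
  linear_combination -h1

/-- **`McL` at 2.** -/
theorem mcl_2 {K : Type*} [Group K] (h : Spor.IsoMcL K) : H620.PNorm.VPow 2 K := by
  obtain ⟨e⟩ := h
  refine H620.PNorm.VPow.mulEquiv (S := _) ⟨z8, ?_, vz_z8⟩ (H713.Spor.McL.mclEquiv.symm.trans e.symm)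
  obtain ⟨j, -, hj⟩ := (Nat.dvd_prime_pow Nat.prime_two).1 (orderOf_dvd_of_pow_eq_one (n := 2 ^ 3) z8_pow)
  exact ⟨j, hj⟩

end Cfsg.Agent.H123.PV.McL
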