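import Cfsg.Agent.H690.Spor.Ru
import Cfsg.Agent.CpAutRuFive.Eng
import Cfsg.Agent.H896.Van.Chi
import Cfsg.Agent.H620.PNorm

/-!
# S4555: the prime 2 for `Ru` (helper123)

The involution `t` has no fixed points in the rank 3 representation on 4060 points and maps 1820 points to a
neighbour: the irreducible character of degree 3276 vanishes at `t`.
-/

set_option autoImplicit false
set_option maxRecDepth 100000
set_option exponentiation.threshold 5000

namespace Cfsg.Agent.H123.PV.Ru

open Cfsg Cfsg.Agent.Lib Cfsg.Agent.Lib.BitNet Cfsg.Agent.SporadicB Cfsg.Agent.SporadicB.RuData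
open Cfsg.Agent.SporadicB.RuOrder Cfsg.Agent.H690.Spor Cfsg.Agent.RuD.Letters Cfsg.Agent.SporRec.TCUpperCert
open Cfsg.Agent.KFacts.Ru.CentEng Cfsg.Agent.CpAutRuFive.Eng

/-- A relation invariant under the group and separating the orbitals is the relation of the rank 3 structure. -/
theorem R3_congr {G X : Type*} [Group G] [MulAction G X] {R R' : X → X → Prop} {k l : ℕ} (h : RankThree.R3 G X R k l)
    (hinv : ∀ (g : G) x y, R' x y → R' (g • x) (g • y)) (hirr : ∀ x, ¬ R' x x) {a b c d : X} (h1 : R a b)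
    (h1' : R' a b) (h2 : c ≠ d) (h3 : ¬ R c d) (h3' : ¬ R' c d) : RankThree.R3 G X R' k l := by
  have e : ∀ x y, R x y ↔ R' x y := by
    intro x y
    constructor
    · intro h4
      obtain ⟨g, rfl, rfl⟩ := h.one a b x y h1 h4
      exact hinv g _ _ h1'
    · intro h4
      by_contra h5
      have h6 : x ≠ y := by
        rintro rfl
        exact hirr _ h4
      obtain ⟨g, rfl, rfl⟩ := h.two c d x y h2 h3 h6 h5
      have h7 := hinv g⁻¹ _ _ h4
      rw [inv_smul_smul, inv_smul_smul] at h7
      exact h3' h7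
  have e' : R = R' := funext fun x => funext fun y => propext (e x y)
  rw [← e']
  exact h

/-- adjacency -/
def A (x y : Fin 4060) : Prop := (row (x : ℕ)).testBit (y : ℕ) = true

theorem inv_A (g : RuOrder.H) (x y : Fin 4060) (h : A x y) : A (g • x) (g • y) := by
  have h1 := (mem_Aut.1 g.2) x y
  unfold A at h ⊢
  change (row ((g : Equiv.Perm (Fin 4060)) x : Fin 4060)).testBit ((g : Equiv.Perm (Fin 4060)) y : Fin 4060) = true
  rw [h1]
  exact h

theorem transH : MulAction.IsPretransitive RuOrder.H (Fin 4060) := isPretransitive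

theorem irr0 : (row 0).testBit 0 = false := by decide +kernel

theorem irr_A (x : Fin 4060) : ¬ A x x := by
  intro h
  obtain ⟨g, hg⟩ := transH.exists_smul_eq x b1
  have h1 := inv_A g x x h
  rw [hg] at h1
  have h2 : (row 0).testBit 0 = true := h1
  rw [irr0] at h2
  exact Bool.false_ne_true h2

theorem r3A : RankThree.R3 RuOrder.H (Fin 4060) A 1755 2304 := by
  have h := RankThree.R3.of_orbits (G := RuOrder.H) (a := b1) (b := Ru.c3) (c := b2) (k := 1755) (l := 2304)
    isPretransitive (by decide) (by decide) (by rw [Ru.orbit_eq]; exact Ru.ncards.1) (by rw [Ru.orbit_eq]; exact Ru.ncards.2) (by norm_num)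
    (by simp)
  have hA : ¬ A b1 b2 := by
    intro h1
    have h2 : (row 0).testBit 29 = true := h1
    rw [Ru.adj_b2] at h2
    exact Bool.false_ne_true h2
  refine R3_congr h inv_A irr_A (a := b1) (b := Ru.c3) (c := b1) (d := b2) ⟨1, one_smul _ _, one_smul _ _⟩
    Ru.adj_c3 (by decide) ?_ hA
  rintro ⟨g, h1, h2⟩
  have h3 := inv_A g b1 Ru.c3 Ru.adj_c3
  rw [h1, h2] at h3
  exact hA h3

/-! ### counting -/

theorem card_mask {M c : ℕ} (h : Nat.beq (popc 12 M) c = true) (P : Fin 4060 → Prop)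
    (hP : ∀ i : Fin 4060, M.testBit i = true ↔ P i) (hM : Nat.ble (Nat.succ M) (Nat.pow 2 4060) = true) :
    Nat.card {i // P i} = c := by
  have hM' : M < 2 ^ 4060 := Nat.le_of_ble_eq_true hM
  have h1 := card_pts_le (n := 4060) (K := 12) (by norm_num) M
  have h2 := card_pts_eq (n := 4060) (K := 12) (x := M) (fun i hi => by
    by_contra h3
    push Not at h3
    rw [Nat.testBit_lt_two_pow (lt_of_lt_of_le hM' (Nat.pow_le_pow_right (by norm_num) h3))] at hi
    exact Bool.false_ne_true hi)
  have h3 : popc 12 M = c := Nat.eq_of_beq_eq_true h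
  have h4 : (pts 4060 M).card = c := by omega
  rw [← h4, ← Fintype.card_coe, ← Nat.card_eq_fintype_card]
  exact Nat.card_congr (Equiv.subtypeEquivRight fun i => by rw [mem_pts]; exact (hP i).symm)

/-- the points adjacent to their image under `t` -/
def MT : ℕ := 0xfbc325761698a074112c1b4dc5892e5e1df4244e472d60061c4281d90e5486d605067a8c81692888957c1b532ef30216f594e1c7a27801d116453ec5dc132555b695809038c43c786ceae614d0205c29a8c46ab896851812c518447cc547742a8c238e0e06de0d5ad934c42d5825b48386783728f8194df87bd5243c24ab6aad4de4565d75ae4007090a1e6f3516327b5223a72b11e33faf856178d461c663c9670109a8b85fb05c59b144644c27494d8a5e42cb592b0935ff98cf6a8584cbb847689ef45ee635536a575bf071716f61df54ad170260f2370044a32c9c94660ce2e27403c01a74901182cf40d6e2469c00eb791ebe8e3c0af26c689812b1e83b998582afab9441a10c97e2450c81a40c814a8a854ac16817f91cc12cb8668013b2cc8d009b8d420d030cc5c9101fdb64dfb3c33308715b4c46988a0c582e4da63c16489f1f576258a70404978fa0a13ac4f75c83fdddbd30148250790486095920951b4e1aee93db98d1ef3a2211fc887a54cc359409615e628ca1000e0b23e5c89b8195dd5375836bb99b05471e8389d5c08ac90fc20ab5b0e651aaa9c3d515dbb1132362c61a5c97b178a8095009f672cead7102c121407648cb86c380089bc858b7650f5d3e5b0ce0a2527d410bb4d4c860dc40111e9b1f0e693e357092825300058dfc1149cc1e420db45b2b404321f23197ab19a03ce68ed6b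

theorem adjT : chkAdj [0] MT = true := by decide +kernel
theorem cntT : Nat.beq (popc 12 MT) 1820 = true := by decide +kernel
theorem ltT : Nat.ble (Nat.succ MT) (Nat.pow 2 4060) = true := by decide +kernel
theorem fixT : Nat.beq (fixMask [0]) 0 = true := by decide +kernel
theorem cnt2 : Nat.beq (popc 12 (Nat.land (row 0) (row 29))) 780 = true := by decide +kernel
theorem lt2 : Nat.ble (Nat.succ (Nat.land (row 0) (row 29))) (Nat.pow 2 4060) = true := by decide +kernel

/-- the involution -/
def T0 : RuOrder.H := wprod ml [0]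

theorem card_adjT : Nat.card {i : Fin 4060 // A i (T0 • i)} = 1820 :=
  card_mask cntT _ (fun i => by rw [testBit_adj adjT]; rfl) ltT

theorem card_fixT : Nat.card (MulAction.fixedBy (Fin 4060) T0) = 0 := by
  have h : ∀ i : Fin 4060, i ∉ MulAction.fixedBy (Fin 4060) T0 := by
    intro i hi
    have h1 : ((wprod ml [0] : RuOrder.H) : Equiv.Perm (Fin 4060)) i = i := hi
    have h2 := (testBit_fixMask [0] i).2 h1
    have h3 : fixMask [0] = 0 := Nat.eq_of_beq_eq_true fixT
    rw [h3, Nat.zero_testBit] at h2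
    exact Bool.false_ne_true h2
  have h1 : MulAction.fixedBy (Fin 4060) T0 = ∅ := Set.eq_empty_of_forall_notMem h
  rw [h1, Nat.card_coe_set_eq, Set.ncard_empty]

theorem card_two : Nat.card {z : Fin 4060 // A b1 z ∧ A z b2} = 780 := by
  refine card_mask cnt2 _ (fun i => ?_) lt2
  change ((row 0) &&& (row 29)).testBit (i : ℕ) = true ↔ _
  rw [Nat.testBit_and, Bool.and_eq_true]
  have h1 : A i b2 ↔ A b2 i := ⟨fun h => r3A.symm _ _ h, fun h => r3A.symm _ _ h⟩
  rw [h1]
  rfl

theorem T0_sq : T0 * T0 = 1 := by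
  have h : chkRel [[0, 0]] = true := by decide +kernel
  have h1 := rel_of_chk h [0, 0] (List.mem_singleton.2 rfl)
  rw [show ([0, 0] : List ℕ) = [0] ++ [0] from rfl, wprod_append] at h1
  exact h1

theorem T0_ne : T0 ≠ 1 := by
  intro h
  have h1 := card_fixT
  rw [h, MulAction.fixedBy_one_eq_univ, Nat.card_coe_set_eq, Set.ncard_univ, Nat.card_eq_fintype_card,
    Fintype.card_fin] at h1
  omega

theorem order_T0 : orderOf T0 = 2 := by
  have : Fact (Nat.Prime 2) := ⟨Nat.prime_two⟩
  exact orderOf_eq_prime (by rw [pow_two, T0_sq]) T0_ne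

theorem vz_T0 : H713.VZ RuOrder.H T0 := by
  obtain ⟨χ, hχ⟩ := H896.Van.Chi.exists_irr r3A (x0 := b1) (y0 := b2) (by decide) (by
      intro h1
      have h2 : (row 0).testBit 29 = true := h1
      rw [Ru.adj_b2] at h2
      exact Bool.false_ne_true h2) (a := 730) (b := 780) card_two (by norm_num) (u := 15) (v := -65) (by norm_num)
    (by norm_num) (by norm_num) (by norm_num) (by norm_num)
  have h0 : (χ : RuOrder.H → ℂ) T0 = 0 := by
    have h1 := hχ T0
    rw [card_adjT, card_fixT] at h1
    have h2 : (80 : ℂ) * (χ : RuOrder.H → ℂ) T0 = 0 := by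
      rw [show (80 : ℂ) = 15 - (-65) by norm_num, h1]
      norm_num
    exact (mul_eq_zero.1 h2).resolve_left (by norm_num)
  refine ⟨χ, fun α => ?_⟩
  obtain ⟨g, rfl⟩ := Cfsg.Agent.OddHalf.Table.OutRu.inner α
  rw [MulAut.conj_apply, Characters.Core.isIrr_isClassFunction χ.2, h0]

/-- **`Ru` at 2**: an involution. -/
theorem ru_2' {K : Type*} [Group K] (h : Spor.IsoRu K) : ∃ x : K, orderOf x = 2 ∧ H713.VZ K x := by
  obtain ⟨e⟩ := h
  set f := (e.trans Cfsg.Agent.RuLat.Main.equiv).symm
  exact ⟨f T0, by rw [MulEquiv.orderOf_eq, order_T0], vz_T0.mulEquiv f⟩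

/-- **`Ru` at 2.** -/
theorem ru_2 {K : Type*} [Group K] (h : Spor.IsoRu K) : H620.PNorm.VPow 2 K := by
  obtain ⟨x, h1, h2⟩ := ru_2' h
  exact ⟨x, ⟨1, h1⟩, h2⟩

end Cfsg.Agent.H123.PV.Ru
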